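import Groth.Prelude.Def_GSzMilK
import Mathlib.GroupTheory.Perm.Sign
import Mathlib.GroupTheory.Perm.Fin

/-!
Rules for symbols in Milnor K-groups.
-/

universe u v w

open Function

namespace MilnorKLib

open MilK

variable {F : Type u} [Field F]

/-- multiplicativity of the symbol in each variable -/
theorem symbol_update_mul {n : ℕ} (x : Fin n → Fˣ) (i : Fin n) (a b : Fˣ) :
    (symbol (update x i (a * b)) : K F n) = symbol (update x i a) + symbol (update x i b) := by
  have h : ∀ c : Fˣ, (fun k => Additive.ofMul (update x i c k)) =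
      update (fun k => Additive.ofMul (x k)) i (Additive.ofMul c) := by
    intro c; funext k; by_cases hk : k = i <;> simp [hk]
  simp only [symbol, h, ofMul_mul, MultilinearMap.map_update_add, map_add]

theorem symbol_update_one {n : ℕ} (x : Fin n → Fˣ) (i : Fin n) :
    (symbol (update x i 1) : K F n) = 0 := by
  have h := symbol_update_mul x i 1 1
  rwa [one_mul, left_eq_add] at h

/-- the symbol as a homomorphism in the `i`-th variable -/
noncomputable def symbolHom {n : ℕ} (x : Fin n → Fˣ) (i : Fin n) : Additive Fˣ →+ K F n where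
  toFun a := symbol (update x i a.toMul)
  map_zero' := symbol_update_one x i
  map_add' a b := symbol_update_mul x i a.toMul b.toMul

theorem symbolHom_apply {n : ℕ} (x : Fin n → Fˣ) (i : Fin n) (a : Fˣ) :
    symbolHom x i (Additive.ofMul a) = symbol (update x i a) := rfl

theorem symbol_update_inv {n : ℕ} (x : Fin n → Fˣ) (i : Fin n) (a : Fˣ) :
    (symbol (update x i a⁻¹) : K F n) = - symbol (update x i a) :=
  map_neg (symbolHom x i) (Additive.ofMul a)

theorem symbol_update_div {n : ℕ} (x : Fin n → Fˣ) (i : Fin n) (a b : Fˣ) :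
    (symbol (update x i (a / b)) : K F n) = symbol (update x i a) - symbol (update x i b) :=
  map_sub (symbolHom x i) (Additive.ofMul a) (Additive.ofMul b)

theorem symbol_update_zpow {n : ℕ} (x : Fin n → Fˣ) (i : Fin n) (a : Fˣ) (k : ℤ) :
    (symbol (update x i (a ^ k)) : K F n) = k • symbol (update x i a) :=
  map_zsmul (symbolHom x i) k (Additive.ofMul a)

theorem symbol_eq_zero_of_eq_one {n : ℕ} (x : Fin n → Fˣ) (i : Fin n) (h : x i = 1) :
    (symbol x : K F n) = 0 := by
  rw [← symbol_update_one x i, ← h, update_eq_self]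

/-- induction on the elements of a Milnor K-group -/
theorem induction_symbol {n : ℕ} {P : K F n → Prop} (x : K F n) (h0 : P 0)
    (hs : ∀ (k : ℤ) (t : Fin n → Fˣ), P (k • symbol t))
    (hadd : ∀ a b, P a → P b → P (a + b)) : P x := by
  obtain ⟨t, rfl⟩ := mk_surjective F n x
  induction t using PiTensorProduct.induction_on with
  | smul_tprod r f =>
    rw [map_zsmul, mk_tprod]
    exact hs _ _
  | add a b ha hb => rw [map_add]; exact hadd _ _ ha hb

theorem mem_closure_symbol {n : ℕ} (x : K F n) :
    x ∈ AddSubgroup.closure (Set.range (symbol : (Fin n → Fˣ) → K F n)) := by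
  induction x using induction_symbol with
  | h0 => exact zero_mem _
  | hs k t => exact zsmul_mem (AddSubgroup.subset_closure (Set.mem_range_self t)) k
  | hadd a b ha hb => exact add_mem ha hb

theorem top_eq_closure {n : ℕ} :
    (⊤ : AddSubgroup (K F n)) = AddSubgroup.closure (Set.range (symbol : (Fin n → Fˣ) → K F n)) :=
  (eq_top_iff.2 fun x _ => mem_closure_symbol x).symm

/-- additive maps out of a K-group agree if they agree on symbols -/
theorem hom_ext {n : ℕ} {M : Type w} [AddCommGroup M] {f g : K F n →+ M}
    (h : ∀ t : Fin n → Fˣ, f (symbol t) = g (symbol t)) : f = g := by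
  refine AddMonoidHom.ext fun x => ?_
  induction x using induction_symbol with
  | h0 => simp
  | hs k t => simp [h]
  | hadd a b ha hb => simp [ha, hb]

theorem hom_apply_ext {n : ℕ} {M : Type w} [AddCommGroup M] (f g : K F n →+ M)
    (h : ∀ t : Fin n → Fˣ, f (symbol t) = g (symbol t)) (x : K F n) : f x = g x := by
  rw [hom_ext h]

/-- a function multiplicative in each variable, as a multilinear map -/
noncomputable def mlOfMul {G : Type*} [CommGroup G] {M : Type w} [AddCommGroup M] {n : ℕ}
    (f : (Fin n → G) → M)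
    (h : ∀ (x : Fin n → G) i a b, f (update x i (a * b)) = f (update x i a) + f (update x i b)) :
    MultilinearMap ℤ (fun _ : Fin n => Additive G) M where
  toFun t := f fun i => (t i).toMul
  map_update_add' := by
    intro d t i a b
    obtain rfl : d = instDecidableEqFin n := Subsingleton.elim _ _
    have e : ∀ c : Additive G, (fun k => (update t i c k).toMul) =
        update (fun k => (t k).toMul) i c.toMul := by
      intro c; funext k; by_cases hk : k = i <;> simp [hk]
    simp only [e, toMul_add, h]
  map_update_smul' := by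
    intro d t i k a
    obtain rfl : d = instDecidableEqFin n := Subsingleton.elim _ _
    have e : ∀ c : Additive G, (fun j => (update t i c j).toMul) =
        update (fun j => (t j).toMul) i c.toMul := by
      intro c; funext j; by_cases hj : j = i <;> simp [hj]
    simp only [e, toMul_zsmul]
    let φ : Additive G →+ M := AddMonoidHom.mk'
      (fun c => f (update (fun j => (t j).toMul) i c.toMul)) (fun c c' => h _ i c.toMul c'.toMul)
    exact map_zsmul φ k a

/-- universal property for functions on tuples of units -/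
noncomputable def klift {M : Type w} [AddCommGroup M] {n : ℕ} (f : (Fin n → Fˣ) → M)
    (h : ∀ (x : Fin n → Fˣ) i a b, f (update x i (a * b)) = f (update x i a) + f (update x i b))
    (hs : ∀ x : Fin n → Fˣ, IsSteinberg F x → f x = 0) : K F n →+ M :=
  MilK.lift (mlOfMul f h) fun x hx => hs x hx

@[simp]
theorem klift_symbol {M : Type w} [AddCommGroup M] {n : ℕ} (f : (Fin n → Fˣ) → M)
    (h : ∀ (x : Fin n → Fˣ) i a b, f (update x i (a * b)) = f (update x i a) + f (update x i b))
    (hs : ∀ x : Fin n → Fˣ, IsSteinberg F x → f x = 0) (x : Fin n → Fˣ) :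
    klift f h hs (symbol x) = f x := MilK.lift_symbol _ _ _

/-- the Steinberg relation at any two distinct positions -/
theorem symbol_steinberg {n : ℕ} (x : Fin n → Fˣ) (i j : Fin n) (hij : i ≠ j)
    (h : (x i : F) + (x j : F) = 1) : (symbol x : K F n) = 0 := by
  rcases lt_or_gt_of_ne hij with hl | hl
  · exact symbol_eq_zero_of_isSteinberg x ⟨i, j, hl, h⟩
  · exact symbol_eq_zero_of_isSteinberg x ⟨j, i, hl, by rwa [add_comm]⟩

theorem symbol_update₂_steinberg {n : ℕ} (x : Fin n → Fˣ) (i j : Fin n) (hij : i ≠ j) (a b : Fˣ)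
    (h : (a : F) + (b : F) = 1) : (symbol (update (update x i a) j b) : K F n) = 0 := by
  refine symbol_steinberg _ i j hij ?_
  simpa [hij] using h

theorem symbol_update₂_neg_self {n : ℕ} (x : Fin n → Fˣ) (i j : Fin n) (hij : i ≠ j) (a : Fˣ) :
    (symbol (update (update x i a) j (-a)) : K F n) = 0 := by
  by_cases ha : (a : F) = 1
  · have ha' : a = 1 := Units.ext ha
    rw [update_comm hij, ha', symbol_update_one]
  · have h1 : (1 : F) - a ≠ 0 := sub_ne_zero.2 (Ne.symm ha)
    have h2 : (1 : F) - ((a⁻¹ : Fˣ) : F) ≠ 0 := by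
      rw [sub_ne_zero]
      intro e
      apply ha
      have hinv : a⁻¹ = 1 := Units.ext e.symm
      simp [inv_eq_one.1 hinv]
    set b : Fˣ := Units.mk0 _ h1 with hb
    set c : Fˣ := Units.mk0 _ h2 with hc
    have e : -a = b / c := by
      rw [eq_div_iff_mul_eq']
      ext
      simp [hb, hc, mul_sub]
    rw [e, symbol_update_div, symbol_update₂_steinberg x i j hij a b (by simp [hb])]
    have h0 : (symbol (update (update x i a⁻¹) j c) : K F n) = 0 :=
      symbol_update₂_steinberg x i j hij a⁻¹ c (by simp [hc])
    rw [update_comm hij, symbol_update_inv, ← update_comm hij, neg_eq_zero] at h0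
    rw [h0, sub_zero]

theorem symbol_update₂_antisymm {n : ℕ} (x : Fin n → Fˣ) (i j : Fin n) (hij : i ≠ j) (a b : Fˣ) :
    (symbol (update (update x i b) j a) : K F n) = - symbol (update (update x i a) j b) := by
  have h := symbol_update₂_neg_self x i j hij (a * b)
  have e1 : -(a * b) = (-a) * b := by ext; simp
  have e2 : -(a * b) = a * (-b) := by ext; simp
  have hl : ∀ c, (symbol (update (update x i (a * b)) j c) : K F n) =
      symbol (update (update x i a) j c) + symbol (update (update x i b) j c) := by
    intro c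
    rw [update_comm hij, symbol_update_mul, ← update_comm hij, ← update_comm hij]
  rw [hl] at h
  conv at h =>
    lhs; arg 1; rw [e1]
  conv at h =>
    lhs; arg 2; rw [e2]
  rw [symbol_update_mul, symbol_update_mul, symbol_update₂_neg_self x i j hij,
    symbol_update₂_neg_self x i j hij, zero_add, add_zero] at h
  exact eq_neg_of_add_eq_zero_right h

theorem symbol_update₂_self {n : ℕ} (x : Fin n → Fˣ) (i j : Fin n) (hij : i ≠ j) (a : Fˣ) :
    (symbol (update (update x i a) j a) : K F n) = symbol (update (update x i a) j (-1)) := by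
  have e : a = (-1) * (-a) := by ext; simp
  conv_lhs => arg 1; arg 3; rw [e]
  rw [symbol_update_mul, symbol_update₂_neg_self x i j hij, add_zero]

theorem symbol_comp_swap {n : ℕ} (x : Fin n → Fˣ) (i j : Fin n) (hij : i ≠ j) :
    (symbol (x ∘ Equiv.swap i j) : K F n) = - symbol x := by
  have e1 : x ∘ Equiv.swap i j = update (update x i (x j)) j (x i) := by
    funext k
    by_cases hkj : k = j
    · subst hkj; simp
    · by_cases hki : k = i
      · subst hki; simp [hij]
      · simp [hkj, hki, Equiv.swap_apply_of_ne_of_ne]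
  rw [e1, symbol_update₂_antisymm x i j hij, update_eq_self, update_eq_self]

theorem symbol_comp_perm {n : ℕ} (x : Fin n → Fˣ) (σ : Equiv.Perm (Fin n)) :
    (symbol (x ∘ σ) : K F n) = ((Equiv.Perm.sign σ : ℤˣ) : ℤ) • symbol x := by
  induction σ using Equiv.Perm.swap_induction_on' with
  | one => simp
  | mul_swap f a b hab ih =>
    rw [show x ∘ ⇑(f * Equiv.swap a b) = (x ∘ f) ∘ Equiv.swap a b from rfl,
      symbol_comp_swap _ a b hab, ih, map_mul, Equiv.Perm.sign_swap hab]
    simp

/-- a subgroup is invariant under permutations of the entries -/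
theorem symbol_mem_of_comp_perm {n : ℕ} (H : AddSubgroup (K F n)) (x : Fin n → Fˣ)
    (σ : Equiv.Perm (Fin n)) (h : symbol (x ∘ σ) ∈ H) : symbol x ∈ H := by
  rw [symbol_comp_perm] at h
  rcases Int.units_eq_one_or (Equiv.Perm.sign σ) with hs | hs <;> simpa [hs] using h

/-- prefixing an entry -/
noncomputable def consK {n : ℕ} (u : Fˣ) : K F n →+ K F (n + 1) :=
  klift (fun x => symbol (Fin.cons u x)) (fun x i a b => by
    simp only [Fin.cons_update, symbol_update_mul])
    (fun x hx => by
      obtain ⟨i, j, hij, h⟩ := hx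
      exact symbol_eq_zero_of_isSteinberg _ ⟨i.succ, j.succ, Fin.succ_lt_succ_iff.2 hij, by simpa using h⟩)

@[simp]
theorem consK_symbol {n : ℕ} (u : Fˣ) (x : Fin n → Fˣ) :
    consK u (symbol x) = symbol (Fin.cons u x) := klift_symbol _ _ _ _

theorem consK_mul {n : ℕ} (u v : Fˣ) :
    (consK (u * v) : K F n →+ K F (n + 1)) = consK u + consK v := by
  refine hom_ext fun x => ?_
  simp only [AddMonoidHom.add_apply, consK_symbol]
  have e : ∀ w : Fˣ, (Fin.cons w x : Fin (n + 1) → Fˣ) = update (Fin.cons 1 x) 0 w :=
    fun w => (Fin.update_cons_zero _ _ _).symm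
  rw [e (u * v), symbol_update_mul, ← e u, ← e v]

/-- `consK` as a homomorphism in the new entry -/
noncomputable def consHom (n : ℕ) : Additive Fˣ →+ (K F n →+ K F (n + 1)) :=
  AddMonoidHom.mk' (fun u => consK u.toMul) fun a b => consK_mul a.toMul b.toMul

theorem consHom_apply {n : ℕ} (a : Additive Fˣ) (x : K F n) :
    consHom n a x = consK a.toMul x := rfl

@[simp]
theorem consK_one {n : ℕ} (x : K F n) : consK (1 : Fˣ) x = 0 := by
  have h := DFunLike.congr_fun (consK_mul (n := n) (1 : Fˣ) 1) x
  rwa [one_mul, AddMonoidHom.add_apply, left_eq_add] at h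

theorem consK_inv {n : ℕ} (u : Fˣ) (x : K F n) : consK u⁻¹ x = - consK u x :=
  DFunLike.congr_fun (map_neg (consHom n) (Additive.ofMul u)) x

theorem consK_div {n : ℕ} (u v : Fˣ) (x : K F n) : consK (u / v) x = consK u x - consK v x :=
  DFunLike.congr_fun (map_sub (consHom n) (Additive.ofMul u) (Additive.ofMul v)) x

theorem consK_zpow {n : ℕ} (u : Fˣ) (k : ℤ) (x : K F n) : consK (u ^ k) x = k • consK u x :=
  DFunLike.congr_fun (map_zsmul (consHom n) k (Additive.ofMul u)) x

theorem consK_mul_apply {n : ℕ} (u v : Fˣ) (x : K F n) :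
    consK (u * v) x = consK u x + consK v x := DFunLike.congr_fun (consK_mul u v) x

theorem consK_steinberg {n : ℕ} (u v : Fˣ) (h : (u : F) + (v : F) = 1) (x : K F n) :
    consK u (consK v x) = 0 := by
  refine hom_apply_ext ((consK u).comp (consK v)) 0 (fun t => ?_) x
  simp only [AddMonoidHom.coe_comp, comp_apply, consK_symbol, AddMonoidHom.zero_apply]
  exact symbol_steinberg _ 0 1 (by simp) (by simpa using h)

theorem consK_neg_self {n : ℕ} (u : Fˣ) (x : K F n) : consK u (consK (-u) x) = 0 := by
  refine hom_apply_ext ((consK u).comp (consK (-u))) 0 (fun t => ?_) x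
  simp only [AddMonoidHom.coe_comp, comp_apply, consK_symbol, AddMonoidHom.zero_apply]
  have h := symbol_update₂_neg_self (Fin.cons u (Fin.cons (-u) t) : Fin (n + 2) → Fˣ) 0 1 (by simp) u
  have e : update (update (Fin.cons u (Fin.cons (-u) t) : Fin (n + 2) → Fˣ) 0 u) 1 (-u) =
      Fin.cons u (Fin.cons (-u) t) := by
    rw [update_eq_self_iff.2 (by simp), update_eq_self_iff.2 (by simp)]
  rwa [e] at h

theorem consK_comm {n : ℕ} (u v : Fˣ) (x : K F n) :
    consK u (consK v x) = - consK v (consK u x) := by
  have h := consK_neg_self (u * v) x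
  have e1 : -(u * v) = (-u) * v := by ext; simp
  have e2 : -(u * v) = u * (-v) := by ext; simp
  rw [consK_mul_apply] at h
  conv at h =>
    lhs; arg 1; rw [e1, consK_mul_apply, map_add, consK_neg_self, zero_add]
  conv at h =>
    lhs; arg 2; rw [e2, consK_mul_apply, map_add, consK_neg_self, add_zero]
  exact eq_neg_of_add_eq_zero_left h

theorem consK_self {n : ℕ} (u : Fˣ) (x : K F n) :
    consK u (consK u x) = consK (-1 : Fˣ) (consK u x) := by
  have e : u = (-1) * (-u) := by ext; simp
  conv_lhs => arg 1; rw [e]
  rw [consK_mul_apply]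
  have : consK (-u) (consK u x) = 0 := by rw [consK_comm, consK_neg_self, neg_zero]
  rw [this, add_zero]

theorem consK_self' {n : ℕ} (u : Fˣ) (x : K F n) :
    consK u (consK u x) = consK u (consK (-1 : Fˣ) x) := by
  have e : u = (-1) * (-u) := by ext; simp
  conv_lhs => arg 2; arg 1; rw [e]
  rw [consK_mul_apply, map_add, consK_neg_self, add_zero]

theorem two_zsmul_consK_neg_one {n : ℕ} (x : K F n) : (2 : ℤ) • consK (-1 : Fˣ) x = 0 := by
  rw [← consK_zpow]
  norm_num

theorem mul_symbol_one {n : ℕ} (u : Fˣ) (x : K F n) :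
    cast F (Nat.add_comm 1 n) (mul F 1 n (symbol ![u]) x) = consK u x := by
  refine hom_apply_ext ((cast F (Nat.add_comm 1 n)).toAddMonoidHom.comp (mul F 1 n (symbol ![u])))
    (consK u) (fun t => ?_) x
  simp only [AddMonoidHom.coe_comp, AddEquiv.coe_toAddMonoidHom, comp_apply, mul_symbol_symbol,
    cast_symbol, consK_symbol]
  congr 1
  funext k
  refine Fin.cases ?_ (fun i => ?_) k
  · have : (Fin.cast (Nat.add_comm 1 n).symm 0 : Fin (1 + n)) = Fin.castAdd n 0 := by ext; simp
    simp [comp_apply, this, Fin.append_left]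
  · have : (Fin.cast (Nat.add_comm 1 n).symm i.succ : Fin (1 + n)) = Fin.natAdd 1 i := by
      ext; simp [Nat.add_comm]
    simp only [comp_apply, this, Fin.append_right, Fin.cons_succ]

/-- degree zero is generated by the empty symbol -/
theorem eq_zsmul_symbol_zero (x : K F 0) (t : Fin 0 → Fˣ) : x = K0 F x • symbol t := by
  apply (K0 F).injective
  rw [map_zsmul, K0_symbol]
  simp

theorem symbol_two (a b : Fˣ) :
    (symbol ![a, b] : K F 2) = consK a (consK b (symbol (![] : Fin 0 → Fˣ))) := by
  simp only [consK_symbol]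
  rfl

theorem symbol_one (a : Fˣ) : (symbol ![a] : K F 1) = consK a (symbol (![] : Fin 0 → Fˣ)) := by
  simp only [consK_symbol]
  rfl

theorem symbol_cons_tail {n : ℕ} (x : Fin (n + 1) → Fˣ) :
    (symbol x : K F (n + 1)) = consK (x 0) (symbol (Fin.tail x)) := by
  rw [consK_symbol, Fin.cons_self_tail]

/-- functoriality -/
theorem map_map {E : Type v} [Field E] {G : Type w} [Field G] (f : F →+* E) (g : E →+* G) {n : ℕ}
    (x : K F n) : map g n (map f n x) = map (g.comp f) n x := by
  refine hom_apply_ext ((map g n).comp (map f n)) (map (g.comp f) n) (fun t => ?_) x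
  simp only [AddMonoidHom.coe_comp, comp_apply, map_symbol]
  rfl

theorem map_id {n : ℕ} (x : K F n) : map (RingHom.id F) n x = x := by
  refine hom_apply_ext (map (RingHom.id F) n) (AddMonoidHom.id _) (fun t => ?_) x
  simp only [map_symbol, AddMonoidHom.id_apply]
  rfl

theorem map_bijective {E : Type v} [Field E] (f : F →+* E) (hf : Bijective f) (n : ℕ) :
    Bijective (map f n) := by
  let e := RingEquiv.ofBijective f hf
  have h1 : ∀ x, map (e.symm : E →+* F) n (map f n x) = x := fun x => by
    rw [map_map, show ((e.symm : E →+* F).comp f) = RingHom.id F from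
      RingHom.ext fun a => e.symm_apply_apply a, map_id]
  have h2 : ∀ y, map f n (map (e.symm : E →+* F) n y) = y := fun y => by
    rw [map_map, show (f.comp (e.symm : E →+* F)) = RingHom.id E from
      RingHom.ext fun a => e.apply_symm_apply a, map_id]
  exact bijective_iff_has_inverse.2 ⟨_, h1, h2⟩

theorem map_consK {E : Type v} [Field E] (f : F →+* E) {n : ℕ} (u : Fˣ) (x : K F n) :
    map f (n + 1) (consK u x) = consK (Units.map (f : F →* E) u) (map f n x) := by
  refine hom_apply_ext ((map f (n + 1)).comp (consK u)) ((consK _).comp (map f n)) (fun t => ?_) x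
  simp only [AddMonoidHom.coe_comp, comp_apply, map_symbol, consK_symbol]
  congr 1
  funext k
  refine Fin.cases ?_ (fun i => ?_) k <;> simp

end MilnorKLib
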