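import Groth.Agent.MilnorKLib.Tame

/-!
Kernels of the tame symbol and of the specialization map.
-/

universe u v w

open Function

namespace MilnorKLib

open MilK

set_option linter.unusedSectionVars false

variable {A : Type u} [CommRing A] [IsDomain A] [IsDiscreteValuationRing A]
variable {L : Type v} [Field L] [Algebra A L] [IsFractionRing A L]

local notation "κ" => IsLocalRing.ResidueField A

variable (A L) in
/-- symbols starting with a unit congruent to one -/
noncomputable def oneGroup (n : ℕ) : AddSubgroup (K L (n + 1)) :=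
  AddSubgroup.closure {z : K L (n + 1) | ∃ (u₀ : Aˣ) (w : Fin n → Lˣ),
    IsLocalRing.residue A (u₀ : A) = 1 ∧ z = symbol (Fin.cons (unitToFrac A L u₀) w)}

theorem unitsGroup_eq (n : ℕ) :
    unitsGroup A L n =
      AddSubgroup.closure {z : K L n | ∃ u : Fin n → Aˣ, z = symbol fun i => unitToFrac A L (u i)} := by
  unfold unitsGroup
  congr 1
  ext z
  exact ⟨fun ⟨u, hu⟩ => ⟨u, hu.symm⟩, fun ⟨u, hu⟩ => ⟨u, hu.symm⟩⟩

theorem unitsSymbol_mem {n : ℕ} (u : Fin n → Aˣ) : (unitsSymbol u : K L n) ∈ unitsGroup A L n :=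
  AddSubgroup.subset_closure (Set.mem_range_self u)

theorem consK_unit_mem_unitsGroup {n : ℕ} (w : Aˣ) {x : K L n} (hx : x ∈ unitsGroup A L n) :
    consK (unitToFrac A L w) x ∈ unitsGroup A L (n + 1) := by
  induction hx using AddSubgroup.closure_induction with
  | mem z hz =>
    obtain ⟨u, rfl⟩ := hz
    rw [consK_unitsSymbol]
    exact unitsSymbol_mem _
  | zero => simp
  | add a b ha hb iha ihb => rw [map_add]; exact add_mem iha ihb
  | neg a ha iha => rw [map_neg]; exact neg_mem iha

theorem consK_consK_uniformizer_mem (ϖ : A) (hϖ : Irreducible ϖ) {n : ℕ} (w : Aˣ)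
    (hw : IsLocalRing.residue A (w : A) = 1) {x : K L n} (hx : x ∈ unitsGroup A L n) :
    consK (unitToFrac A L w) (consK (unitFrac A L ϖ hϖ.ne_zero) x) ∈ unitsGroup A L (n + 2) := by
  have hres := residue_eq_zero_of_irreducible hϖ
  have mk_unit : ∀ a : A, IsLocalRing.residue A a = 1 → IsUnit a := fun a ha =>
    (IsLocalRing.residue_ne_zero_iff_isUnit a).1 (by rw [ha]; exact one_ne_zero)
  -- units of level exactly one
  have one : ∀ (v a : Aˣ), (v : A) = 1 - ϖ * a →
      consK (unitToFrac A L v) (consK (unitFrac A L ϖ hϖ.ne_zero) x) ∈ unitsGroup A L (n + 2) := by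
    intro v a hv
    have e : consK (unitToFrac A L v)
        (consK (unitFrac A L ϖ hϖ.ne_zero * unitToFrac A L a) x) = 0 := by
      refine consK_steinberg _ _ ?_ x
      simp [coe_unitToFrac, hv]
    rw [consK_mul_apply, map_add, add_eq_zero_iff_eq_neg] at e
    rw [e]
    exact neg_mem (consK_unit_mem_unitsGroup v (consK_unit_mem_unitsGroup a hx))
  have hm : 1 - (w : A) ∈ IsLocalRing.maximalIdeal A := by
    rw [← IsLocalRing.residue_eq_zero_iff, map_sub, hw, map_one, sub_self]
  rw [hϖ.maximalIdeal_eq, Ideal.mem_span_singleton] at hm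
  obtain ⟨c, hc⟩ := hm
  by_cases hcu : IsUnit c
  · exact one w hcu.unit (by rw [IsUnit.unit_spec, ← hc]; ring)
  · have hc0 : IsLocalRing.residue A c = 0 := by
      rw [IsLocalRing.residue_eq_zero_iff, IsLocalRing.mem_maximalIdeal]; exact hcu
    set v : Aˣ := (mk_unit (1 - ϖ) (by simp [hres])).unit with hv
    have hv' : (v : A) = 1 - ϖ := by simp [hv]
    set z : A := (w : A) * ((v⁻¹ : Aˣ) : A) with hz
    have hcz : IsUnit (((v⁻¹ : Aˣ) : A) * (c - 1)) :=
      (Units.isUnit _).mul ((IsLocalRing.residue_ne_zero_iff_isUnit _).1 (by simp [hc0]))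
    have e : w = (w * v⁻¹) * v := by simp
    rw [e, map_mul, consK_mul_apply]
    refine add_mem (one _ hcz.unit ?_) (one v 1 (by simp [hv']))
    rw [IsUnit.unit_spec, Units.val_mul]
    have hvv : (v : A) * ((v⁻¹ : Aˣ) : A) = 1 := Units.mul_inv v
    linear_combination (-((v⁻¹ : Aˣ) : A)) * hc + (1 : A) * hvv - ((v⁻¹ : Aˣ) : A) * hv'

theorem oneGroup_le_unitsGroup (n : ℕ) : oneGroup A L n ≤ unitsGroup A L (n + 1) := by
  obtain ⟨ϖ, hϖ⟩ := IsDiscreteValuationRing.exists_irreducible A
  refine (AddSubgroup.closure_le _).2 ?_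
  rintro _ ⟨u₀, w, hu, rfl⟩
  rw [SetLike.mem_coe, ← consK_symbol]
  cases n with
  | zero =>
    have e : w = fun i : Fin 0 => unitToFrac A L ((Fin.elim0 : Fin 0 → Aˣ) i) :=
      funext fun i => i.elim0
    rw [e, consK_unitsSymbol]
    exact unitsSymbol_mem _
  | succ n =>
    refine induction_units ϖ hϖ (H := (unitsGroup A L (n + 2)).comap (consK (unitToFrac A L u₀)))
      (fun u => ?_) (fun u => ?_) _
    · rw [AddSubgroup.mem_comap, consK_unitsSymbol]
      exact unitsSymbol_mem _
    · exact consK_consK_uniformizer_mem ϖ hϖ u₀ hu (unitsSymbol_mem u)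

theorem symbol_mem_oneGroup {n : ℕ} (x : Fin (n + 1) → Lˣ) (i : Fin (n + 1)) (u : Aˣ)
    (hu : IsLocalRing.residue A (u : A) = 1) (hx : x i = unitToFrac A L u) :
    symbol x ∈ oneGroup A L n := by
  refine symbol_mem_of_comp_perm _ x (Equiv.swap 0 i) ?_
  refine AddSubgroup.subset_closure ⟨u, Fin.tail (x ∘ Equiv.swap 0 i), hu, ?_⟩
  rw [← hx, show x i = (x ∘ Equiv.swap 0 i) 0 by simp, Fin.cons_self_tail]

/-- factorisation through residues: a multiplicative function of tuples of units which vanishes when
an entry is congruent to one or a Steinberg relation holds descends to the residue field -/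
theorem exists_descend {M : Type w} [AddCommGroup M] {n : ℕ} (f : (Fin n → Aˣ) → M)
    (hmul : ∀ (x : Fin n → Aˣ) i a b, f (update x i (a * b)) = f (update x i a) + f (update x i b))
    (hone : ∀ (x : Fin n → Aˣ) i, IsLocalRing.residue A (x i : A) = 1 → f x = 0)
    (hst : ∀ (x : Fin n → Aˣ) i j, i < j → (x i : A) + x j = 1 → f x = 0) :
    ∃ ι : K κ n →+ M, ∀ x : Fin n → Aˣ, ι (symbol fun i => unitResidue A (x i)) = f x := by
  classical
  have indep : ∀ x y : Fin n → Aˣ, (∀ i, unitResidue A (x i) = unitResidue A (y i)) → f x = f y := by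
    intro x y h
    have key : ∀ (s : Finset (Fin n)) (z : Fin n → Aˣ),
        (∀ i ∈ s, unitResidue A (z i) = unitResidue A (y i)) →
        f (fun i => if i ∈ s then y i else z i) = f z := by
      intro s
      induction s using Finset.induction_on with
      | empty => simp
      | insert a s ha ih =>
        intro z hz
        have hres : IsLocalRing.residue A ((y a / z a : Aˣ) : A) = 1 := by
          rw [← coe_unitResidue, map_div, hz a (Finset.mem_insert_self a s), div_self',
            Units.val_one]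
        set z' : Fin n → Aˣ := update z a (y a) with hz'
        have e1 : (fun i => if i ∈ insert a s then y i else z i) =
            fun i => if i ∈ s then y i else z' i := by
          funext i
          by_cases hia : i = a <;> simp [hia, hz', ha]
        have e2 : f z' = f z := by
          rw [hz', show y a = z a * (y a / z a) by simp, hmul, update_eq_self,
            hone (update z a (y a / z a)) a (by simpa using hres), add_zero]
        rw [e1, ih z' fun i hi => by
          have hne : i ≠ a := by rintro rfl; exact ha hi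
          simp only [hz', update_of_ne hne]
          exact hz i (Finset.mem_insert_of_mem hi), e2]
    have := key Finset.univ x fun i _ => h i
    simpa using this.symm
  choose σ hσ using exists_unit_lift (A := A)
  have hmul' : ∀ (x : Fin n → (IsLocalRing.ResidueField A)ˣ) i a b,
      f (σ ∘ update x i (a * b)) = f (σ ∘ update x i a) + f (σ ∘ update x i b) := by
    intro x i a b
    rw [comp_update, comp_update, comp_update, ← hmul]
    refine indep _ _ fun k => ?_
    by_cases hk : k = i
    · subst hk; simp [hσ]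
    · simp [hk]
  refine ⟨klift (fun x => f (σ ∘ x)) hmul' ?_, fun x => ?_⟩
  · rintro x ⟨i, j, hij, h⟩
    have hsum : IsLocalRing.residue A ((σ (x i) : A) + σ (x j)) = 1 := by
      rw [map_add, ← coe_unitResidue, ← coe_unitResidue, hσ, hσ, h]
    have hu : IsUnit (1 - (σ (x i) : A)) := by
      apply (IsLocalRing.residue_ne_zero_iff_isUnit _).1
      rw [map_sub, map_one, ← coe_unitResidue, hσ, ← h, add_sub_cancel_left]
      exact (x j).ne_zero
    rw [show f (σ ∘ x) = f (update (σ ∘ x) j hu.unit) from indep _ _ fun k => by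
      by_cases hk : k = j
      · subst hk
        ext
        rw [update_self, comp_apply, hσ, coe_unitResidue, IsUnit.unit_spec, map_sub, map_one,
          ← coe_unitResidue, hσ, ← h, add_sub_cancel_left]
      · simp [hk]]
    refine hst _ i j hij ?_
    simp [hij.ne]
  · rw [klift_symbol]
    exact indep _ _ fun i => hσ _

theorem spec_oneGroup (ϖ : A) (hϖ : Irreducible ϖ) {n : ℕ} {x : K L (n + 1)}
    (hx : x ∈ oneGroup A L n) : phiL ϖ hϖ n x = 0 := by
  have : oneGroup A L n ≤ (phiL ϖ hϖ n).ker := by
    refine (AddSubgroup.closure_le _).2 ?_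
    rintro _ ⟨u, w, hu, rfl⟩
    rw [SetLike.mem_coe, AddMonoidHom.mem_ker, phiL_symbol]
    refine phi_eq_zero_of_eq_zero _ 0 ?_
    have : unitResidue A u = 1 := Units.ext hu
    simp [theta_unit, this]
  exact this hx

/-- the kernel of specialization and tame symbol together -/
theorem phiL_eq_zero_iff (ϖ : A) (hϖ : Irreducible ϖ) {n : ℕ} (x : K L (n + 1)) :
    phiL ϖ hϖ n x = 0 ↔ x ∈ oneGroup A L n := by
  refine ⟨fun h => ?_, spec_oneGroup ϖ hϖ⟩
  let q := QuotientAddGroup.mk' (oneGroup A L n)
  obtain ⟨ι₁, h₁⟩ := exists_descend (A := A) (fun u => q (unitsSymbol u))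
    (fun x i a b => by
      rw [← map_add]
      congr 1
      have e : ∀ c, (fun k => unitToFrac A L (update x i c k)) =
          update (fun k => unitToFrac A L (x k)) i (unitToFrac A L c) := by
        intro c; funext k; by_cases hk : k = i <;> simp [hk]
      simp only [unitsSymbol, e, map_mul, symbol_update_mul])
    (fun x i hi => (QuotientAddGroup.eq_zero_iff _).2 (symbol_mem_oneGroup _ i (x i) hi rfl))
    (fun x i j hij h => by
      rw [unitsSymbol, symbol_steinberg _ i j hij.ne, map_zero]
      rw [coe_unitToFrac, coe_unitToFrac, ← map_add, h, map_one])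
  obtain ⟨ι₂, h₂⟩ := exists_descend (A := A) (n := n)
    (fun u => q (consK (unitFrac A L ϖ hϖ.ne_zero) (unitsSymbol u)))
    (fun x i a b => by
      rw [← map_add, ← map_add]
      congr 2
      have e : ∀ c, (fun k => unitToFrac A L (update x i c k)) =
          update (fun k => unitToFrac A L (x k)) i (unitToFrac A L c) := by
        intro c; funext k; by_cases hk : k = i <;> simp [hk]
      simp only [unitsSymbol, e, map_mul, symbol_update_mul])
    (fun x i hi => (QuotientAddGroup.eq_zero_iff _).2 (by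
      rw [consK_symbol]
      exact symbol_mem_oneGroup _ i.succ (x i) hi (by simp)))
    (fun x i j hij h => by
      rw [unitsSymbol, symbol_steinberg _ i j hij.ne, map_zero, map_zero]
      rw [coe_unitToFrac, coe_unitToFrac, ← map_add, h, map_one])
  have key : q x = ι₁ (phiL ϖ hϖ n x).1 + ι₂ (phiL ϖ hϖ n x).2 := by
    have : x ∈ AddMonoidHom.eqLocus q
        (ι₁.comp ((AddMonoidHom.fst _ _).comp (phiL ϖ hϖ n)) +
          ι₂.comp ((AddMonoidHom.snd _ _).comp (phiL ϖ hϖ n))) := by
      refine induction_units ϖ hϖ (fun u => ?_) (fun u => ?_) x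
      · change q (unitsSymbol u) = ι₁ (phiL ϖ hϖ n (unitsSymbol u)).1 + ι₂ (phiL ϖ hϖ n _).2
        rw [phiL_symbol, phi_fst, phi_units _ (fun i => by simp [theta_unit]), map_zero, add_zero,
          ← h₁]
        simp [theta_unit, ru]
      · change q _ = ι₁ (phiL ϖ hϖ n _).1 + ι₂ (phiL ϖ hϖ n _).2
        rw [← h₂]
        simp only [unitsSymbol, consK_symbol, phiL_symbol, phi_fst]
        rw [phi_uniformizer _ (by simp [theta_self]) (fun i => by simp [theta_unit]),
          symbol_eq_zero_of_eq_one (F := IsLocalRing.ResidueField A)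
            (fun i => ru (theta ϖ hϖ (Additive.ofMul
              ((Fin.cons (unitFrac A L ϖ hϖ.ne_zero) fun i => unitToFrac A L (u i) :
                Fin (n + 1) → Lˣ) i)))) 0 (by simp [theta_self, ru]),
          map_zero, zero_add]
        simp [theta_unit, ru]
    exact this
  rw [h] at key
  simpa [q] using key

theorem spec_consK_uniformizer (ϖ : A) (hϖ : Irreducible ϖ) {n : ℕ} (x : K L n) :
    spec ϖ hϖ (n + 1) (consK (unitFrac A L ϖ hϖ.ne_zero) x) = 0 := by
  refine hom_apply_ext ((spec ϖ hϖ (n + 1)).comp (consK _)) 0 (fun t => ?_) x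
  simp only [AddMonoidHom.coe_comp, comp_apply, consK_symbol, spec_symbol, AddMonoidHom.zero_apply]
  exact symbol_eq_zero_of_eq_one _ 0 (by simp [theta_self, ru])

theorem tame_unitsGroup {n : ℕ} {d : K L (n + 1) →+ K κ n} (hd : IsTameSymbol A L n d)
    {x : K L (n + 1)} (hx : x ∈ unitsGroup A L (n + 1)) : d x = 0 := by
  have : unitsGroup A L (n + 1) ≤ d.ker := by
    refine (AddSubgroup.closure_le _).2 ?_
    rintro _ ⟨u, rfl⟩
    exact tame_unitsSymbol hd u
  exact this hx

theorem tame_consK_unitsGroup {n : ℕ} {d : K L (n + 1) →+ K κ n} (hd : IsTameSymbol A L n d)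
    (ϖ : A) (hϖ : Irreducible ϖ) {x : K L n} (hx : x ∈ unitsGroup A L n) :
    d (consK (unitFrac A L ϖ hϖ.ne_zero) x) = spec ϖ hϖ n x := by
  induction hx using AddSubgroup.closure_induction with
  | mem z hz =>
    obtain ⟨u, rfl⟩ := hz
    rw [tame_consK_uniformizer hd ϖ hϖ, spec_symbol]
    simp [theta_unit, ru]
  | zero => simp
  | add a b ha hb iha ihb => simp [iha, ihb]
  | neg a ha iha => simp [iha]

theorem exists_spec_tame (ϖ : A) (hϖ : Irreducible ϖ) {n : ℕ} {d : K L (n + 1) →+ K κ n}
    (hd : IsTameSymbol A L n d) (a : K κ (n + 1)) (b : K κ n) :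
    ∃ x : K L (n + 1), spec ϖ hϖ (n + 1) x = a ∧ d x = b := by
  obtain ⟨xa, hxa, hxa'⟩ := map_residue_surjective_units (L := L) a
  obtain ⟨xb, hxb, hxb'⟩ := map_residue_surjective_units (L := L) b
  refine ⟨xa + consK (unitFrac A L ϖ hϖ.ne_zero) xb, ?_, ?_⟩
  · simp [hxa', spec_consK_uniformizer]
  · simp [tame_unitsGroup hd hxa, tame_consK_unitsGroup hd ϖ hϖ hxb, hxb']

theorem ker_tame {n : ℕ} {d : K L (n + 1) →+ K κ n} (hd : IsTameSymbol A L n d) :
    d.ker = unitsGroup A L (n + 1) := by
  refine le_antisymm (fun x hx => ?_) (fun x hx => tame_unitsGroup hd hx)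
  obtain ⟨ϖ, hϖ⟩ := IsDiscreteValuationRing.exists_irreducible A
  obtain ⟨y, hy, hy'⟩ := map_residue_surjective_units (L := L) (spec ϖ hϖ (n + 1) x)
  have : x - y ∈ oneGroup A L n := by
    rw [← phiL_eq_zero_iff ϖ hϖ, map_sub, sub_eq_zero]
    refine Prod.ext ?_ ?_
    · rw [phi_fst_theta, phi_fst_theta, hy']
    · change tame ϖ hϖ n x = tame ϖ hϖ n y
      rw [← eq_tame hd ϖ hϖ, tame_unitsGroup hd hy]
      exact hx
  simpa using add_mem (oneGroup_le_unitsGroup n this) hy

end MilnorKLib
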