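import Groth.Agent.MilnorKLib.Basic

/-!
The abstract construction behind the tame symbol and the specialization map: tuples in
`ℤ × κˣ` are sent to `K κ (n + 1) × K κ n`.
-/

universe u

open Function

namespace MilnorKLib

open MilK

variable {κ : Type u} [Field κ]

/-- residue unit of an abstract element -/
abbrev ru (a : ℤ × Additive κˣ) : κˣ := a.2.toMul

/-- the operator of an entry in the lowest degree -/
noncomputable def opS (n : ℕ) : ℤ × Additive κˣ →+ (K κ n →+ K κ (n + 1) × K κ n) :=
  AddMonoidHom.mk' (fun a => (consK (ru a)).prod (a.1 • AddMonoidHom.id _)) fun a b => by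
    ext x <;> simp [ru, consK_mul_apply, add_zsmul]

/-- the operator of an entry -/
noncomputable def opT (n : ℕ) :
    ℤ × Additive κˣ →+ (K κ (n + 1) × K κ n →+ K κ (n + 2) × K κ (n + 1)) :=
  AddMonoidHom.mk' (fun a => ((consK (ru a)).comp (AddMonoidHom.fst _ _)).prod
      (a.1 • AddMonoidHom.fst _ _ - (consK (ru a)).comp (AddMonoidHom.snd _ _) +
        a.1 • (consK (-1 : κˣ)).comp (AddMonoidHom.snd _ _))) fun a b => by
    ext x <;> simp [ru, consK_mul_apply, add_zsmul] <;> abel

theorem opS_apply {n : ℕ} (a : ℤ × Additive κˣ) (s : K κ n) :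
    opS n a s = (consK (ru a) s, a.1 • s) := by simp [opS]

theorem opT_apply {n : ℕ} (a : ℤ × Additive κˣ) (p : K κ (n + 1) × K κ n) :
    opT n a p = (consK (ru a) p.1,
      a.1 • p.1 - consK (ru a) p.2 + a.1 • consK (-1 : κˣ) p.2) := by simp [opT]

/-- tuples to pairs (specialization, tame symbol) -/
noncomputable def phi : ∀ n : ℕ, (Fin (n + 1) → ℤ × Additive κˣ) → K κ (n + 1) × K κ n
  | 0, x => opS 0 (x 0) (symbol ![])
  | n + 1, x => opT n (x 0) (phi n (Fin.tail x))

theorem phi_zero (x : Fin 1 → ℤ × Additive κˣ) : phi 0 x = opS 0 (x 0) (symbol ![]) := rfl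

theorem phi_succ {n : ℕ} (x : Fin (n + 2) → ℤ × Additive κˣ) :
    phi (n + 1) x = opT n (x 0) (phi n (Fin.tail x)) := rfl

theorem phi_update_add : ∀ {n : ℕ} (x : Fin (n + 1) → ℤ × Additive κˣ) (i : Fin (n + 1))
    (a b : ℤ × Additive κˣ),
    phi n (update x i (a + b)) = phi n (update x i a) + phi n (update x i b) := by
  intro n
  induction n with
  | zero =>
    intro x i a b
    obtain rfl : i = 0 := Fin.fin_one_eq_zero i
    simp [phi_zero]
  | succ n ih =>
    intro x i a b
    refine Fin.cases ?_ (fun j => ?_) i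
    · simp [phi_succ, Fin.tail_update_zero]
    · simp [phi_succ, Fin.tail_update_succ, ih, (Fin.succ_ne_zero j).symm]

theorem phi_eq_zero_of_eq_zero {n : ℕ} (x : Fin (n + 1) → ℤ × Additive κˣ) (i : Fin (n + 1))
    (h : x i = 0) : phi n x = 0 := by
  have := phi_update_add x i 0 0
  rw [← h, update_eq_self, h, add_zero, ← h, update_eq_self, left_eq_add] at this
  exact this

/-- the first component -/
theorem phi_fst : ∀ {n : ℕ} (x : Fin (n + 1) → ℤ × Additive κˣ),
    (phi n x).1 = symbol fun i => ru (x i) := by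
  intro n
  induction n with
  | zero =>
    intro x
    rw [phi_zero, opS_apply, consK_symbol]
    dsimp only
    congr 1
    funext k
    obtain rfl : k = 0 := Fin.fin_one_eq_zero k
    rfl
  | succ n ih =>
    intro x
    rw [phi_succ, opT_apply, ih, consK_symbol]
    dsimp only
    congr 1
    funext k
    refine Fin.cases ?_ (fun i => ?_) k <;> rfl

/-- entries of level zero -/
theorem phi_units : ∀ {n : ℕ} (x : Fin (n + 1) → ℤ × Additive κˣ), (∀ i, (x i).1 = 0) →
    (phi n x).2 = 0 := by
  intro n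
  induction n with
  | zero => intro x h; simp [phi_zero, opS_apply, h]
  | succ n ih =>
    intro x h
    simp [phi_succ, opT_apply, h, ih (Fin.tail x) (fun i => h i.succ)]

/-- first entry of level one, the rest of level zero -/
theorem phi_uniformizer {n : ℕ} (x : Fin (n + 1) → ℤ × Additive κˣ) (h0 : (x 0).1 = 1)
    (h : ∀ i : Fin n, (x i.succ).1 = 0) : (phi n x).2 = symbol fun i => ru (x i.succ) := by
  cases n with
  | zero =>
    simp only [phi_zero, opS_apply, h0, one_zsmul]
    congr 1
    funext i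
    exact i.elim0
  | succ n =>
    simp [phi_succ, opT_apply, h0, phi_units (Fin.tail x) h, phi_fst, Fin.tail]

/-- pairs of entries coming from a Steinberg relation -/
def RelPair (a b : ℤ × Additive κˣ) : Prop :=
  a = 0 ∨ b = 0 ∨ (a.1 = 0 ∧ b.1 = 0 ∧ (ru a : κ) + (ru b : κ) = 1) ∨
    (a.1 = b.1 ∧ ru b = - ru a)

/-- coefficient of the first component after two steps -/
noncomputable def c1 (n : ℕ) (a b : ℤ × Additive κˣ) : K κ n →+ K κ (n + 1) :=
  a.1 • consK (ru b) - b.1 • consK (ru a) + (a.1 * b.1) • consK (-1 : κˣ)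

/-- coefficient of the second component after two steps -/
noncomputable def c2 (n : ℕ) (a b : ℤ × Additive κˣ) : K κ n →+ K κ (n + 2) :=
  (consK (ru a)).comp (consK (ru b)) - b.1 • (consK (ru a)).comp (consK (-1 : κˣ))
    - a.1 • (consK (-1 : κˣ)).comp (consK (ru b))
    + (a.1 * b.1) • (consK (-1 : κˣ)).comp (consK (-1 : κˣ))

theorem opT_opS {n : ℕ} (a b : ℤ × Additive κˣ) (s : K κ n) :
    opT n a (opS n b s) = (consK (ru a) (consK (ru b) s), c1 n a b s) := by
  simp [opT_apply, opS_apply, c1, mul_zsmul]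

theorem opT_opT {n : ℕ} (a b : ℤ × Additive κˣ) (p : K κ (n + 1) × K κ n) :
    opT (n + 1) a (opT n b p) =
      (consK (ru a) (consK (ru b) p.1), c1 (n + 1) a b p.1 + c2 n a b p.2) := by
  simp only [opT_apply, c1, c2, AddMonoidHom.add_apply, AddMonoidHom.sub_apply,
    AddMonoidHom.zsmul_apply, AddMonoidHom.coe_comp, comp_apply, map_add, map_sub, map_zsmul,
    smul_add, smul_sub, mul_zsmul, Prod.mk.injEq, true_and]
  abel

theorem c1_antisymm {n : ℕ} (a b : ℤ × Additive κˣ) (x : K κ n) :
    c1 n a b x = - c1 n b a x := by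
  have h2 := two_zsmul_consK_neg_one (F := κ) x
  have e : c1 n a b x + c1 n b a x = (a.1 * b.1) • ((2 : ℤ) • consK (-1 : κˣ) x) := by
    rw [two_zsmul, smul_add]
    simp [c1, mul_comm b.1 a.1]
    abel
  rw [h2, smul_zero] at e
  exact eq_neg_of_add_eq_zero_left e

theorem c2_antisymm {n : ℕ} (a b : ℤ × Additive κˣ) (x : K κ n) :
    c2 n a b x = - c2 n b a x := by
  have h2 := two_zsmul_consK_neg_one (F := κ) (consK (-1 : κˣ) x)
  have e : c2 n a b x + c2 n b a x =
      (a.1 * b.1) • ((2 : ℤ) • consK (-1 : κˣ) (consK (-1 : κˣ) x)) := by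
    rw [two_zsmul, smul_add]
    simp [c2, mul_comm b.1 a.1, consK_comm (ru b) (ru a), consK_comm (-1 : κˣ) (ru a),
      consK_comm (-1 : κˣ) (ru b)]
    abel
  rw [h2, smul_zero] at e
  exact eq_neg_of_add_eq_zero_left e

theorem consK_consK_relPair {n : ℕ} {a b : ℤ × Additive κˣ} (h : RelPair a b) (x : K κ n) :
    consK (ru a) (consK (ru b) x) = 0 := by
  rcases h with rfl | rfl | ⟨_, _, h⟩ | ⟨_, h⟩
  · simp [ru]
  · simp [ru]
  · exact consK_steinberg _ _ h x
  · rw [h]; exact consK_neg_self _ _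

theorem c1_relPair {n : ℕ} {a b : ℤ × Additive κˣ} (h : RelPair a b) (x : K κ n) :
    c1 n a b x = 0 := by
  rcases h with rfl | rfl | ⟨ha, hb, _⟩ | ⟨hab, h⟩
  · simp [c1, ru]
  · simp [c1, ru]
  · simp [c1, ha, hb]
  · have h2 := two_zsmul_consK_neg_one (F := κ) x
    have e : -ru a = (-1 : κˣ) * ru a := Units.ext (by simp)
    obtain ⟨m, hm⟩ := (Int.even_mul_succ_self b.1).two_dvd
    have : c1 n a b x = (b.1 * (b.1 + 1)) • consK (-1 : κˣ) x := by
      rw [mul_add, mul_one, add_zsmul]
      simp only [c1, hab, h, e, AddMonoidHom.add_apply, AddMonoidHom.sub_apply,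
        AddMonoidHom.zsmul_apply, consK_mul_apply, smul_add]
      abel
    rw [this, hm, mul_comm 2 m, mul_zsmul, h2, smul_zero]

theorem c2_relPair {n : ℕ} {a b : ℤ × Additive κˣ} (h : RelPair a b) (x : K κ n) :
    c2 n a b x = 0 := by
  rcases h with rfl | rfl | ⟨ha, hb, h⟩ | ⟨hab, h⟩
  · simp [c2, ru]
  · simp [c2, ru]
  · simp [c2, ha, hb, consK_steinberg _ _ h]
  · have h2 := two_zsmul_consK_neg_one (F := κ) (consK (-1 : κˣ) x)
    have e : -ru a = (-1 : κˣ) * ru a := Units.ext (by simp)
    obtain ⟨m, hm⟩ := (Int.even_mul_pred_self b.1).two_dvd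
    have : c2 n a b x = (b.1 * (b.1 - 1)) • consK (-1 : κˣ) (consK (-1 : κˣ) x) := by
      simp only [c2, hab, h, AddMonoidHom.add_apply, AddMonoidHom.sub_apply,
        AddMonoidHom.coe_comp, comp_apply, AddMonoidHom.zsmul_apply, consK_neg_self]
      rw [e, consK_mul_apply (-1 : κˣ) (ru a), map_add, consK_comm (-1 : κˣ) (ru a) x,
        mul_sub, sub_zsmul, mul_one]
      simp
      abel
    rw [this, hm, mul_comm 2 m, mul_zsmul, h2, smul_zero]

theorem phi_swap_head {n : ℕ} (x : Fin (n + 2) → ℤ × Additive κˣ) :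
    phi (n + 1) (x ∘ Equiv.swap 0 1) = - phi (n + 1) x := by
  have e0 : (x ∘ Equiv.swap 0 1) 0 = x 1 := by simp
  have e1 : Fin.tail (x ∘ Equiv.swap 0 1) 0 = x 0 := by simp [Fin.tail]
  have e1' : Fin.tail x 0 = x 1 := rfl
  cases n with
  | zero =>
    simp only [phi_succ, phi_zero, e0, e1, e1', opT_opS]
    rw [consK_comm (ru (x 1)) (ru (x 0)), c1_antisymm (x 1) (x 0)]
    rfl
  | succ n =>
    have e2 : Fin.tail (Fin.tail (x ∘ Equiv.swap 0 1)) = Fin.tail (Fin.tail x) := by
      funext i
      simp only [Fin.tail, comp_apply]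
      congr 1
    simp only [phi_succ, e0, e1, e1', e2, opT_opT]
    ext
    · simp [consK_comm (ru (x 1)) (ru (x 0))]
    · simp [c1_antisymm (x 1) (x 0), c2_antisymm (x 1) (x 0)]
      abel

theorem phi_swap_adjacent : ∀ {n : ℕ} (x : Fin (n + 1) → ℤ × Additive κˣ) (k : Fin n),
    phi n (x ∘ Equiv.swap k.castSucc k.succ) = - phi n x := by
  intro n
  induction n with
  | zero => intro x k; exact k.elim0
  | succ n ih =>
    intro x k
    refine Fin.cases ?_ (fun j => ?_) k
    · simpa using phi_swap_head x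
    · have e0 : (x ∘ Equiv.swap j.succ.castSucc j.succ.succ) 0 = x 0 := by
        simp only [comp_apply]
        rw [Equiv.swap_apply_of_ne_of_ne]
        · rw [← Fin.succ_castSucc]; exact (Fin.succ_ne_zero _).symm
        · exact (Fin.succ_ne_zero _).symm
      have e1 : Fin.tail (x ∘ Equiv.swap j.succ.castSucc j.succ.succ) =
          Fin.tail x ∘ Equiv.swap j.castSucc j.succ := by
        funext i
        simp only [Fin.tail, comp_apply]
        congr 1
        rw [← Fin.succ_castSucc]
        exact (Fin.succ_injective _).map_swap _ _ _ |>.symm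
      rw [phi_succ, e0, e1, ih, map_neg, ← phi_succ]

theorem phi_comp_perm_eq_zero_iff {n : ℕ} (σ : Equiv.Perm (Fin (n + 1))) :
    ∀ x : Fin (n + 1) → ℤ × Additive κˣ, phi n (x ∘ σ) = 0 ↔ phi n x = 0 := by
  have hσ : σ ∈ Submonoid.closure (Set.range fun i : Fin n => Equiv.swap i.castSucc i.succ) := by
    simp [Equiv.Perm.mclosure_swap_castSucc_succ]
  induction hσ using Submonoid.closure_induction with
  | mem τ hτ =>
    obtain ⟨k, rfl⟩ := hτ
    intro x
    rw [phi_swap_adjacent, neg_eq_zero]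
  | one => intro x; simp
  | mul s t hs ht ihs iht =>
    intro x
    rw [show x ∘ ⇑(s * t) = (x ∘ s) ∘ t from rfl, iht, ihs]

/-- tuples containing a related pair are sent to zero -/
theorem phi_relPair {n : ℕ} (x : Fin (n + 1) → ℤ × Additive κˣ) (i j : Fin (n + 1)) (hij : i ≠ j)
    (h : RelPair (x i) (x j)) : phi n x = 0 := by
  cases n with
  | zero => exact absurd ((Fin.fin_one_eq_zero i).trans (Fin.fin_one_eq_zero j).symm) hij
  | succ n =>
    set σ : Equiv.Perm (Fin (n + 2)) := Equiv.swap 0 i * Equiv.swap 1 (Equiv.swap 0 i j) with hσ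
    have h1 : σ 1 = j := by simp [hσ]
    have h0 : σ 0 = i := by
      have hne : Equiv.swap 0 i j ≠ 0 := by
        intro e
        apply hij
        have := congrArg (Equiv.swap 0 i) e
        simpa using this.symm
      simp [hσ, Equiv.swap_apply_of_ne_of_ne (zero_ne_one) hne.symm]
    rw [← phi_comp_perm_eq_zero_iff σ]
    have e0 : (x ∘ σ) 0 = x i := by simp [h0]
    have e1 : Fin.tail (x ∘ σ) 0 = x j := by simp [Fin.tail, h1]
    cases n with
    | zero =>
      simp only [phi_succ, phi_zero, e0, e1, opT_opS, consK_consK_relPair h, c1_relPair h,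
        Prod.mk_zero_zero]
    | succ n =>
      simp only [phi_succ, e0, e1, opT_opT, consK_consK_relPair h, c1_relPair h, c2_relPair h,
        add_zero, Prod.mk_zero_zero]

end MilnorKLib
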