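import Groth.Agent.MilnorKLib.Phi
import Mathlib.RingTheory.LocalRing.ResidueField.Basic

/-!
Tame symbol and specialization map of a discrete valuation ring.
-/

universe u v

open Function

set_option linter.unusedSectionVars false

namespace MilnorKLib

open MilK

variable {A : Type u} [CommRing A] [IsDomain A] [IsDiscreteValuationRing A]
variable {L : Type v} [Field L] [Algebra A L] [IsFractionRing A L]

local notation "κ" => IsLocalRing.ResidueField A

omit [IsDomain A] [IsDiscreteValuationRing A] [IsFractionRing A L] in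
theorem coe_unitToFrac (u : Aˣ) : (unitToFrac A L u : L) = algebraMap A L u := rfl

theorem coe_unitResidue (u : Aˣ) : (unitResidue A u : κ) = IsLocalRing.residue A (u : A) := rfl

theorem exists_unit_lift (c : (IsLocalRing.ResidueField A)ˣ) : ∃ u : Aˣ, unitResidue A u = c := by
  obtain ⟨a, ha⟩ := IsLocalRing.residue_surjective (R := A) (c : κ)
  have hu : IsUnit a := (IsLocalRing.residue_ne_zero_iff_isUnit a).1 (by rw [ha]; exact c.ne_zero)
  exact ⟨hu.unit, Units.ext ha⟩

theorem residue_unit_ne_zero (u : Aˣ) : IsLocalRing.residue A (u : A) ≠ 0 :=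
  (unitResidue A u).ne_zero

theorem residue_eq_zero_of_irreducible {ϖ : A} (hϖ : Irreducible ϖ) :
    IsLocalRing.residue A ϖ = 0 :=
  (IsLocalRing.residue_eq_zero_iff ϖ).2
    ((IsLocalRing.mem_maximalIdeal ϖ).2 hϖ.not_isUnit)

theorem exists_decomp (ϖ : A) (hϖ : Irreducible ϖ) (x : Lˣ) :
    ∃ (i : ℤ) (u : Aˣ), x = unitFrac A L ϖ hϖ.ne_zero ^ i * unitToFrac A L u := by
  obtain ⟨a, b, hb, h⟩ := IsFractionRing.div_surjective (A := A) (x : L)
  have hb0 : b ≠ 0 := nonZeroDivisors.ne_zero hb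
  have ha0 : a ≠ 0 := by
    rintro rfl
    rw [map_zero, zero_div] at h
    exact x.ne_zero h.symm
  obtain ⟨m, u, rfl⟩ := IsDiscreteValuationRing.eq_unit_mul_pow_irreducible ha0 hϖ
  obtain ⟨k, w, rfl⟩ := IsDiscreteValuationRing.eq_unit_mul_pow_irreducible hb0 hϖ
  refine ⟨(m : ℤ) - k, u / w, ?_⟩
  rw [zpow_sub, zpow_natCast, zpow_natCast, map_div]
  ext
  push_cast [coe_unitToFrac, coe_unitFrac]
  rw [← h, map_mul, map_mul, map_pow, map_pow]
  simp [div_eq_mul_inv]
  ring

theorem decomp_eq_one (ϖ : A) (hϖ : Irreducible ϖ) (i : ℤ) (u : Aˣ)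
    (h : unitFrac A L ϖ hϖ.ne_zero ^ i * unitToFrac A L u = 1) : i = 0 ∧ u = 1 := by
  have key : ∀ (m : ℕ) (w : Aˣ), unitFrac A L ϖ hϖ.ne_zero ^ m * unitToFrac A L w = 1 →
      m = 0 ∧ w = 1 := by
    intro m w h
    have h' : ϖ ^ m * (w : A) = 1 := by
      apply IsFractionRing.injective A L
      simpa [coe_unitToFrac] using congrArg Units.val h
    have hm : m = 0 := by
      by_contra hm
      have hu : IsUnit (ϖ ^ m) := IsUnit.of_mul_eq_one _ h'
      exact hϖ.not_isUnit ((isUnit_pow_iff hm).1 hu)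
    subst hm
    refine ⟨rfl, Units.ext ?_⟩
    simpa using h'
  rcases Int.eq_nat_or_neg i with ⟨m, rfl | rfl⟩
  · rw [zpow_natCast] at h
    obtain ⟨h1, h2⟩ := key m u h
    exact ⟨by simp [h1], h2⟩
  · rw [zpow_neg, zpow_natCast] at h
    have h' : unitFrac A L ϖ hϖ.ne_zero ^ m * unitToFrac A L u⁻¹ = 1 := by
      rw [map_inv]
      calc _ = ((unitFrac A L ϖ hϖ.ne_zero ^ m)⁻¹ * unitToFrac A L u)⁻¹ := by
            rw [mul_inv, inv_inv]
        _ = 1 := by rw [h, inv_one]
    obtain ⟨h1, h2⟩ := key m u⁻¹ h'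
    exact ⟨by simp [h1], inv_eq_one.1 h2⟩

theorem decomp_unique (ϖ : A) (hϖ : Irreducible ϖ) {i j : ℤ} {u w : Aˣ}
    (h : unitFrac A L ϖ hϖ.ne_zero ^ i * unitToFrac A L u =
      unitFrac A L ϖ hϖ.ne_zero ^ j * unitToFrac A L w) : i = j ∧ u = w := by
  obtain ⟨h1, h2⟩ := decomp_eq_one (L := L) ϖ hϖ (i - j) (u / w) (by
    rw [zpow_sub, map_div, div_eq_mul_inv, mul_mul_mul_comm, h, mul_mul_mul_comm]
    simp)
  exact ⟨sub_eq_zero.1 h1, div_eq_one.1 h2⟩

/-- level and residue of an element -/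
noncomputable def theta (ϖ : A) (hϖ : Irreducible ϖ) :
    Additive Lˣ →+ ℤ × Additive (IsLocalRing.ResidueField A)ˣ :=
  AddMonoidHom.mk'
    (fun x => ((exists_decomp ϖ hϖ x.toMul).choose,
      Additive.ofMul (unitResidue A (exists_decomp ϖ hϖ x.toMul).choose_spec.choose)))
    (fun x y => by
      have h := (exists_decomp ϖ hϖ (x + y).toMul).choose_spec.choose_spec
      have hx := (exists_decomp ϖ hϖ x.toMul).choose_spec.choose_spec
      have hy := (exists_decomp ϖ hϖ y.toMul).choose_spec.choose_spec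
      have h' : (x + y).toMul = unitFrac A L ϖ hϖ.ne_zero ^
          ((exists_decomp ϖ hϖ x.toMul).choose + (exists_decomp ϖ hϖ y.toMul).choose) *
          unitToFrac A L ((exists_decomp ϖ hϖ x.toMul).choose_spec.choose *
            (exists_decomp ϖ hϖ y.toMul).choose_spec.choose) := by
        rw [toMul_add, zpow_add, map_mul, mul_mul_mul_comm, ← hx, ← hy]
      obtain ⟨h1, h2⟩ := decomp_unique ϖ hϖ (h.symm.trans h')
      rw [Prod.mk_add_mk, ← h1, ← ofMul_mul, ← map_mul, ← h2])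

theorem theta_mk (ϖ : A) (hϖ : Irreducible ϖ) (i : ℤ) (u : Aˣ) :
    theta ϖ hϖ (Additive.ofMul (unitFrac A L ϖ hϖ.ne_zero ^ i * unitToFrac A L u)) =
      (i, Additive.ofMul (unitResidue A u)) := by
  have h := (exists_decomp ϖ hϖ (unitFrac A L ϖ hϖ.ne_zero ^ i * unitToFrac A L u)).choose_spec.choose_spec
  obtain ⟨h1, h2⟩ := decomp_unique ϖ hϖ h
  refine Prod.ext h1.symm ?_
  exact congrArg (fun w => Additive.ofMul (unitResidue A w)) h2.symm

theorem theta_unit (ϖ : A) (hϖ : Irreducible ϖ) (u : Aˣ) :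
    theta ϖ hϖ (Additive.ofMul (unitToFrac A L u)) = (0, Additive.ofMul (unitResidue A u)) := by
  simpa using theta_mk (L := L) ϖ hϖ 0 u

theorem theta_self (ϖ : A) (hϖ : Irreducible ϖ) :
    theta ϖ hϖ (Additive.ofMul (unitFrac A L ϖ hϖ.ne_zero)) = (1, 0) := by
  simpa using theta_mk (L := L) ϖ hϖ 1 1

theorem unitFrac_mul_unit (ϖ : A) (u : Aˣ) (h0 : ϖ ≠ 0) (h : ϖ * (u : A) ≠ 0) :
    unitFrac A L (ϖ * u) h = unitFrac A L ϖ h0 * unitToFrac A L u := by
  ext
  simp [coe_unitToFrac]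

theorem exists_unit_of_irreducible {ϖ ϖ' : A} (hϖ : Irreducible ϖ) (hϖ' : Irreducible ϖ') :
    ∃ u : Aˣ, ϖ' = ϖ * u := by
  obtain ⟨u, hu⟩ := IsDiscreteValuationRing.associated_of_irreducible A hϖ hϖ'
  exact ⟨u, hu.symm⟩

theorem theta_irreducible (ϖ : A) (hϖ : Irreducible ϖ) (ϖ' : A) (hϖ' : Irreducible ϖ') :
    (theta ϖ hϖ (Additive.ofMul (unitFrac A L ϖ' hϖ'.ne_zero))).1 = 1 := by
  obtain ⟨u, rfl⟩ := exists_unit_of_irreducible hϖ hϖ'
  rw [unitFrac_mul_unit (L := L) ϖ u hϖ.ne_zero, ofMul_mul, map_add, theta_self, theta_unit]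
  rfl

/-- A Steinberg relation gives a related pair. -/
theorem relPair_theta (ϖ : A) (hϖ : Irreducible ϖ) (x y : Lˣ) (h : (x : L) + (y : L) = 1) :
    RelPair (theta ϖ hϖ (Additive.ofMul x)) (theta ϖ hϖ (Additive.ofMul y)) := by
  obtain ⟨i, u, rfl⟩ := exists_decomp ϖ hϖ x
  obtain ⟨j, w, rfl⟩ := exists_decomp ϖ hϖ y
  rw [theta_mk, theta_mk]
  have hres := residue_eq_zero_of_irreducible hϖ
  have hinj := IsFractionRing.injective A L
  -- a positive level forces the other entry to be a unit congruent to one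
  have pos : ∀ (i j : ℤ) (u w : Aˣ),
      ((unitFrac A L ϖ hϖ.ne_zero ^ i * unitToFrac A L u : Lˣ) : L) +
        (unitFrac A L ϖ hϖ.ne_zero ^ j * unitToFrac A L w : Lˣ) = 1 → 0 < i →
      j = 0 ∧ unitResidue A w = 1 := by
    intro i j u w h hi
    obtain ⟨m, rfl⟩ : ∃ m : ℕ, i = (m : ℤ) + 1 := ⟨(i - 1).toNat, by omega⟩
    set c : A := 1 - ϖ ^ (m + 1) * u with hc
    have hcr : IsLocalRing.residue A c = 1 := by simp [hc, hres]
    have hcu : IsUnit c := (IsLocalRing.residue_ne_zero_iff_isUnit c).1 (by rw [hcr]; exact one_ne_zero)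
    have e : unitFrac A L ϖ hϖ.ne_zero ^ j * unitToFrac A L w =
        unitFrac A L ϖ hϖ.ne_zero ^ (0 : ℤ) * unitToFrac A L hcu.unit := by
      ext
      rw [eq_sub_of_add_eq' h]
      rw [show (m : ℤ) + 1 = ((m + 1 : ℕ) : ℤ) by push_cast; rfl, zpow_natCast]
      simp [coe_unitToFrac, hc]
    obtain ⟨h1, h2⟩ := decomp_unique ϖ hϖ e
    refine ⟨h1, Units.ext ?_⟩
    rw [coe_unitResidue, h2]
    simp [hcr]
  rcases lt_trichotomy i 0 with hi | rfl | hi
  · have hj : j < 0 := by
      rcases lt_trichotomy j 0 with hj | rfl | hj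
      · exact hj
      · exfalso
        -- `x = 1 - y` would be integral
        obtain ⟨m, rfl⟩ : ∃ m : ℕ, i = -((m : ℤ) + 1) := ⟨(-i - 1).toNat, by omega⟩
        have e : (u : A) = ϖ ^ (m + 1) * (1 - w) := by
          apply hinj
          rw [zpow_zero, one_mul, ← eq_sub_iff_add_eq, Units.val_mul, zpow_neg,
            show (m : ℤ) + 1 = ((m + 1 : ℕ) : ℤ) by push_cast; rfl, zpow_natCast] at h
          simp only [Units.val_inv_eq_inv_val, Units.val_pow_eq_pow_val, coe_unitFrac,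
            coe_unitToFrac] at h
          rw [inv_mul_eq_iff_eq_mul₀] at h
          · simpa using h
          · exact pow_ne_zero _ ((map_ne_zero_iff _ hinj).2 hϖ.ne_zero)
        exact residue_unit_ne_zero u (by simp [e, hres])
      · exfalso
        have := (pos j i w u (by rwa [add_comm]) hj).1
        omega
    obtain ⟨e, rfl⟩ : ∃ e : ℕ, i = -(e : ℤ) := ⟨(-i).toNat, by omega⟩
    obtain ⟨f, rfl⟩ : ∃ f : ℕ, j = -(f : ℤ) := ⟨(-j).toNat, by omega⟩
    have he : 0 < e := by omega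
    have hf : 0 < f := by omega
    have key : (u : A) * ϖ ^ f + (w : A) * ϖ ^ e = ϖ ^ e * ϖ ^ f := by
      apply hinj
      simp only [zpow_neg, zpow_natCast, Units.val_mul, Units.val_inv_eq_inv_val,
        Units.val_pow_eq_pow_val, coe_unitFrac, coe_unitToFrac] at h
      have hp : algebraMap A L ϖ ≠ 0 := (map_ne_zero_iff _ hinj).2 hϖ.ne_zero
      field_simp at h
      simp only [map_add, map_mul, map_pow]
      linear_combination h
    have hef : e = f := by
      rcases lt_trichotomy e f with hlt | heq | hlt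
      · exfalso
        obtain ⟨g, rfl⟩ : ∃ g, f = e + (g + 1) := ⟨f - e - 1, by omega⟩
        have e2 : (w : A) = ϖ ^ (g + 1) * ϖ ^ e - (u : A) * ϖ ^ (g + 1) := by
          refine mul_left_cancel₀ (pow_ne_zero e hϖ.ne_zero) ?_
          linear_combination key
        exact residue_unit_ne_zero w (by simp [e2, hres])
      · exact heq
      · exfalso
        obtain ⟨g, rfl⟩ : ∃ g, e = f + (g + 1) := ⟨e - f - 1, by omega⟩
        have e2 : (u : A) = ϖ ^ (g + 1) * ϖ ^ f - (w : A) * ϖ ^ (g + 1) := by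
          refine mul_left_cancel₀ (pow_ne_zero f hϖ.ne_zero) ?_
          linear_combination key
        exact residue_unit_ne_zero u (by simp [e2, hres])
    subst hef
    have e3 : (u : A) + w = ϖ ^ e := by
      refine mul_left_cancel₀ (pow_ne_zero e hϖ.ne_zero) ?_
      linear_combination key
    refine Or.inr (Or.inr (Or.inr ⟨rfl, Units.ext ?_⟩))
    have := congrArg (IsLocalRing.residue A) e3
    rw [map_add, map_pow, hres, zero_pow (by omega)] at this
    simpa [ru, coe_unitResidue] using eq_neg_of_add_eq_zero_right this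
  · rcases lt_trichotomy j 0 with hj | rfl | hj
    · exfalso
      obtain ⟨m, rfl⟩ : ∃ m : ℕ, j = -((m : ℤ) + 1) := ⟨(-j - 1).toNat, by omega⟩
      have e : (w : A) = ϖ ^ (m + 1) * (1 - u) := by
        apply hinj
        rw [zpow_zero, one_mul, add_comm, ← eq_sub_iff_add_eq, Units.val_mul, zpow_neg,
          show (m : ℤ) + 1 = ((m + 1 : ℕ) : ℤ) by push_cast; rfl, zpow_natCast] at h
        simp only [Units.val_inv_eq_inv_val, Units.val_pow_eq_pow_val, coe_unitFrac,
          coe_unitToFrac] at h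
        rw [inv_mul_eq_iff_eq_mul₀] at h
        · simpa using h
        · exact pow_ne_zero _ ((map_ne_zero_iff _ hinj).2 hϖ.ne_zero)
      exact residue_unit_ne_zero w (by simp [e, hres])
    · refine Or.inr (Or.inr (Or.inl ⟨rfl, rfl, ?_⟩))
      simp only [zpow_zero, one_mul, coe_unitToFrac] at h
      have h' : (u : A) + w = 1 := hinj (by simpa using h)
      simpa [ru, coe_unitResidue] using congrArg (IsLocalRing.residue A) h'
    · obtain ⟨-, h2⟩ := pos j 0 w u (by rwa [add_comm]) hj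
      exact Or.inl (by rw [h2]; rfl)
  · obtain ⟨h1, h2⟩ := pos i j u w h hi
    exact Or.inr (Or.inl (by rw [h1, h2]; rfl))

theorem theta_update (ϖ : A) (hϖ : Irreducible ϖ) {n : ℕ} (x : Fin n → Lˣ) (i : Fin n) (a : Lˣ) :
    (fun k => theta ϖ hϖ (Additive.ofMul (update x i a k))) =
      update (fun k => theta ϖ hϖ (Additive.ofMul (x k))) i (theta ϖ hϖ (Additive.ofMul a)) := by
  funext k; by_cases hk : k = i <;> simp [hk]

/-- specialization and tame symbol together -/
noncomputable def phiL (ϖ : A) (hϖ : Irreducible ϖ) (n : ℕ) :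
    K L (n + 1) →+ K κ (n + 1) × K κ n :=
  klift (fun x => phi n fun i => theta ϖ hϖ (Additive.ofMul (x i)))
    (fun x i a b => by simp only [theta_update, ofMul_mul, map_add, phi_update_add])
    (fun x hx => by
      obtain ⟨i, j, hij, h⟩ := hx
      exact phi_relPair _ i j hij.ne (relPair_theta ϖ hϖ _ _ h))

theorem phiL_symbol (ϖ : A) (hϖ : Irreducible ϖ) {n : ℕ} (x : Fin (n + 1) → Lˣ) :
    phiL ϖ hϖ n (symbol x) = phi n fun i => theta ϖ hϖ (Additive.ofMul (x i)) :=
  klift_symbol _ _ _ _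

/-- the tame symbol -/
noncomputable def tame (ϖ : A) (hϖ : Irreducible ϖ) (n : ℕ) : K L (n + 1) →+ K κ n :=
  (AddMonoidHom.snd _ _).comp (phiL ϖ hϖ n)

/-- the specialization map -/
noncomputable def spec (ϖ : A) (hϖ : Irreducible ϖ) (n : ℕ) : K L n →+ K κ n :=
  klift (fun x => symbol fun i => ru (theta ϖ hϖ (Additive.ofMul (x i))))
    (fun x i a b => by
      have e : ∀ c : Lˣ, (fun k => ru (theta ϖ hϖ (Additive.ofMul (update x i c k)))) =
          update (fun k => ru (theta ϖ hϖ (Additive.ofMul (x k)))) i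
            (ru (theta ϖ hϖ (Additive.ofMul c))) := by
        intro c; funext k; by_cases hk : k = i <;> simp [hk]
      simp only [e, ofMul_mul, map_add]
      exact symbol_update_mul _ _ _ _)
    (fun x hx => by
      obtain ⟨i, j, hij, h⟩ := hx
      rcases relPair_theta ϖ hϖ _ _ h with h | h | ⟨_, _, h⟩ | ⟨_, h⟩
      · exact symbol_eq_zero_of_eq_one _ i (by simp [ru, h])
      · exact symbol_eq_zero_of_eq_one _ j (by simp [ru, h])
      · exact symbol_steinberg _ i j hij.ne h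
      · set t : Fin _ → (IsLocalRing.ResidueField A)ˣ :=
          fun k => ru (theta ϖ hϖ (Additive.ofMul (x k))) with ht
        have e : update (update t i (t i)) j (-t i) = t := by
          rw [update_eq_self, update_eq_self_iff]
          exact h.symm
        rw [← e]
        exact symbol_update₂_neg_self t i j hij.ne (t i))

theorem spec_symbol (ϖ : A) (hϖ : Irreducible ϖ) {n : ℕ} (x : Fin n → Lˣ) :
    spec ϖ hϖ n (symbol x) = symbol fun i => ru (theta ϖ hϖ (Additive.ofMul (x i))) :=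
  klift_symbol _ _ _ _

theorem isSpecMap_spec (ϖ : A) (hϖ : Irreducible ϖ) (n : ℕ) :
    IsSpecMap A L ϖ hϖ n (spec ϖ hϖ n) := by
  intro e u
  rw [spec_symbol]
  congr 1
  funext i
  rw [theta_mk]
  rfl

theorem eq_spec {ϖ : A} {hϖ : Irreducible ϖ} {n : ℕ} {s : K L n →+ K κ n}
    (hs : IsSpecMap A L ϖ hϖ n s) : s = spec ϖ hϖ n := by
  refine hom_ext fun x => ?_
  choose e u he using fun i => exists_decomp ϖ hϖ (x i)
  have hx : x = fun i => unitFrac A L ϖ hϖ.ne_zero ^ e i * unitToFrac A L (u i) := funext he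
  rw [hx, hs e u, isSpecMap_spec ϖ hϖ n e u]

theorem isTameSymbol_tame (ϖ : A) (hϖ : Irreducible ϖ) (n : ℕ) :
    IsTameSymbol A L n (tame ϖ hϖ n) := by
  intro ϖ' hϖ' u
  simp only [tame, AddMonoidHom.coe_comp, AddMonoidHom.coe_snd, comp_apply, phiL_symbol]
  rw [phi_uniformizer]
  · congr 1
    funext i
    simp [theta_unit, ru]
  · simpa using theta_irreducible (L := L) ϖ hϖ ϖ' hϖ'
  · intro i
    simp [theta_unit]

theorem phi_fst_theta (ϖ : A) (hϖ : Irreducible ϖ) {n : ℕ} (x : K L (n + 1)) :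
    (phiL ϖ hϖ n x).1 = spec ϖ hϖ (n + 1) x := by
  refine hom_apply_ext ((AddMonoidHom.fst _ _).comp (phiL ϖ hϖ n)) (spec ϖ hϖ (n + 1)) (fun t => ?_) x
  simp [phiL_symbol, phi_fst, spec_symbol]

/-- symbols with unit entries -/
noncomputable abbrev unitsSymbol {n : ℕ} (u : Fin n → Aˣ) : K L n := symbol fun i => unitToFrac A L (u i)

theorem consK_unitsSymbol {n : ℕ} (w : Aˣ) (u : Fin n → Aˣ) :
    consK (unitToFrac A L w) (unitsSymbol u : K L n) = unitsSymbol (Fin.cons w u) := by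
  rw [unitsSymbol, consK_symbol]
  congr 1
  funext k
  refine Fin.cases ?_ (fun i => ?_) k <;> simp

theorem tame_unitsSymbol {n : ℕ} {d : K L (n + 1) →+ K κ n} (hd : IsTameSymbol A L n d)
    (u : Fin (n + 1) → Aˣ) : d (unitsSymbol u) = 0 := by
  obtain ⟨ϖ, hϖ⟩ := IsDiscreteValuationRing.exists_irreducible A
  have hϖ' : Irreducible (ϖ * (u 0 : A)) := (irreducible_mul_units (u 0)).2 hϖ
  have h2 := hd ϖ hϖ fun i => u i.succ
  have h1 := hd _ hϖ' fun i => u i.succ
  rw [unitFrac_mul_unit (L := L) ϖ (u 0) hϖ.ne_zero, ← consK_symbol, consK_mul_apply, map_add,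
    consK_symbol, consK_symbol, h2, add_eq_left] at h1
  rw [← h1, unitsSymbol]
  congr 2
  funext k
  refine Fin.cases ?_ (fun i => ?_) k <;> simp

variable (A L) in
/-- the subgroup of symbols with unit entries -/
noncomputable def unitsGroup (n : ℕ) : AddSubgroup (K L n) :=
  AddSubgroup.closure (Set.range fun u : Fin n → Aˣ => (unitsSymbol u : K L n))

/-- the generators: all entries units, or a uniformizer followed by units -/
theorem induction_units (ϖ : A) (hϖ : Irreducible ϖ) :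
    ∀ {n : ℕ} {H : AddSubgroup (K L (n + 1))} (_ : ∀ u : Fin (n + 1) → Aˣ, unitsSymbol u ∈ H)
      (_ : ∀ u : Fin n → Aˣ, consK (unitFrac A L ϖ hϖ.ne_zero) (unitsSymbol u) ∈ H)
      (x : K L (n + 1)), x ∈ H := by
  have step : ∀ {n : ℕ} (H : AddSubgroup (K L (n + 1)))
      (_ : ∀ u : Fin (n + 1) → Aˣ, unitsSymbol u ∈ H)
      (_ : ∀ u : Fin n → Aˣ, consK (unitFrac A L ϖ hϖ.ne_zero) (unitsSymbol u) ∈ H)
      (a : Lˣ) (u : Fin n → Aˣ), consK a (unitsSymbol u) ∈ H := by
    intro n H hU hP a u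
    obtain ⟨i, w, rfl⟩ := exists_decomp ϖ hϖ a
    rw [consK_mul_apply, consK_zpow, consK_unitsSymbol]
    exact add_mem (zsmul_mem (hP u) i) (hU _)
  intro n
  induction n with
  | zero =>
    intro H hU hP x
    induction x using induction_symbol with
    | h0 => exact zero_mem _
    | hadd a b ha hb => exact add_mem ha hb
    | hs k t =>
      refine zsmul_mem ?_ k
      have e : Fin.tail t = fun i : Fin 0 => unitToFrac A L ((Fin.elim0 : Fin 0 → Aˣ) i) :=
        funext fun i => i.elim0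
      rw [symbol_cons_tail, e]
      exact step H hU hP (t 0) Fin.elim0
  | succ n ih =>
    intro H hU hP x
    induction x using induction_symbol with
    | h0 => exact zero_mem _
    | hadd a b ha hb => exact add_mem ha hb
    | hs k t =>
      refine zsmul_mem ?_ k
      rw [symbol_cons_tail]
      refine ih (H := H.comap (consK (t 0))) (fun u => ?_) (fun u => ?_) _
      · exact step H hU hP (t 0) u
      · rw [AddSubgroup.mem_comap]
        obtain ⟨i, w, hw⟩ := exists_decomp ϖ hϖ (t 0)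
        rw [hw, consK_mul_apply, consK_zpow]
        refine add_mem (zsmul_mem ?_ i) ?_
        · have e : (-1 : Lˣ) = unitToFrac A L (-1) := by ext; simp [coe_unitToFrac]
          rw [consK_self', e, consK_unitsSymbol]
          exact hP _
        · rw [consK_comm, consK_unitsSymbol]
          exact neg_mem (hP _)

theorem eq_tame {n : ℕ} {d : K L (n + 1) →+ K κ n} (hd : IsTameSymbol A L n d) (ϖ : A)
    (hϖ : Irreducible ϖ) : d = tame ϖ hϖ n := by
  refine AddMonoidHom.ext fun x => ?_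
  have : x ∈ AddMonoidHom.eqLocus d (tame ϖ hϖ n) := by
    refine induction_units ϖ hϖ (fun u => ?_) (fun u => ?_) x
    · exact (tame_unitsSymbol hd u).trans (tame_unitsSymbol (isTameSymbol_tame ϖ hϖ n) u).symm
    · rw [consK_symbol]
      exact (hd ϖ hϖ u).trans (isTameSymbol_tame ϖ hϖ n ϖ hϖ u).symm
  exact this

theorem tame_symbol {n : ℕ} {d : K L (n + 1) →+ K κ n} (hd : IsTameSymbol A L n d) (ϖ : A)
    (hϖ : Irreducible ϖ) (x : Fin (n + 1) → Lˣ) :
    d (symbol x) = (phi n fun i => theta ϖ hϖ (Additive.ofMul (x i))).2 := by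
  rw [eq_tame hd ϖ hϖ]
  simp [tame, phiL_symbol]

theorem tame_consK_uniformizer {n : ℕ} {d : K L (n + 1) →+ K κ n} (hd : IsTameSymbol A L n d)
    (ϖ : A) (hϖ : Irreducible ϖ) (u : Fin n → Aˣ) :
    d (consK (unitFrac A L ϖ hϖ.ne_zero) (unitsSymbol u)) = symbol fun i => unitResidue A (u i) := by
  rw [consK_symbol]
  exact hd ϖ hϖ u

theorem phiL_consK (ϖ : A) (hϖ : Irreducible ϖ) {n : ℕ} (a : Lˣ) (x : K L (n + 1)) :
    phiL ϖ hϖ (n + 1) (consK a x) = opT n (theta ϖ hϖ (Additive.ofMul a)) (phiL ϖ hϖ n x) := by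
  refine hom_apply_ext ((phiL ϖ hϖ (n + 1)).comp (consK a))
    ((opT n (theta ϖ hϖ (Additive.ofMul a))).comp (phiL ϖ hϖ n)) (fun t => ?_) x
  simp only [AddMonoidHom.coe_comp, comp_apply, consK_symbol, phiL_symbol, phi_succ, Fin.cons_zero]
  rfl

theorem tame_consK_unit {n : ℕ} {d : K L (n + 1) →+ K κ n} (hd : IsTameSymbol A L n d)
    {d' : K L (n + 2) →+ K κ (n + 1)} (hd' : IsTameSymbol A L (n + 1) d') (u : Aˣ)
    (x : K L (n + 1)) :
    d' (consK (unitToFrac A L u) x) = - consK (unitResidue A u) (d x) := by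
  obtain ⟨ϖ, hϖ⟩ := IsDiscreteValuationRing.exists_irreducible A
  rw [eq_tame hd ϖ hϖ, eq_tame hd' ϖ hϖ]
  simp [tame, phiL_consK, theta_unit, opT_apply, ru]

theorem theta_neg_one (ϖ : A) (hϖ : Irreducible ϖ) :
    theta ϖ hϖ (Additive.ofMul (-1 : Lˣ)) = (0, Additive.ofMul (-1 : (IsLocalRing.ResidueField A)ˣ)) := by
  have e : (-1 : Lˣ) = unitToFrac A L (-1) := by ext; simp [coe_unitToFrac]
  have e' : unitResidue A (-1) = -1 := by ext; simp [coe_unitResidue]
  rw [e, theta_unit, e']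

theorem spec_eq_tame_consK {n : ℕ} {d : K L (n + 1) →+ K κ n} (hd : IsTameSymbol A L n d)
    (ϖ : A) (hϖ : Irreducible ϖ) (x : K L n) :
    d (consK (-unitFrac A L ϖ hϖ.ne_zero) x) = spec ϖ hϖ n x := by
  have e : theta ϖ hϖ (Additive.ofMul (-unitFrac A L ϖ hϖ.ne_zero)) =
      (1, Additive.ofMul (-1 : (IsLocalRing.ResidueField A)ˣ)) := by
    have : -unitFrac A L ϖ hϖ.ne_zero = (-1 : Lˣ) * unitFrac A L ϖ hϖ.ne_zero := Units.ext (by simp)
    rw [this, ofMul_mul, map_add, theta_neg_one, theta_self]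
    simp
  refine hom_apply_ext (d.comp (consK (-unitFrac A L ϖ hϖ.ne_zero))) (spec ϖ hϖ n) (fun t => ?_) x
  simp only [AddMonoidHom.coe_comp, comp_apply, consK_symbol, tame_symbol hd ϖ hϖ, spec_symbol]
  cases n with
  | zero =>
    simp only [phi_zero, opS_apply, Fin.cons_zero, e, one_zsmul]
    congr 1
    funext i
    exact i.elim0
  | succ n =>
    simp only [phi_succ, opT_apply, Fin.cons_zero, e, one_zsmul, ru, toMul_ofMul, sub_add_cancel]
    rw [phi_fst]
    rfl

theorem map_residue_surjective_units {n : ℕ} (y : K κ n) :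
    ∃ x : K L n, x ∈ unitsGroup A L n ∧
      ∀ (ϖ : A) (hϖ : Irreducible ϖ), spec ϖ hϖ n x = y := by
  induction y using induction_symbol with
  | h0 => exact ⟨0, zero_mem _, by simp⟩
  | hadd a b ha hb =>
    obtain ⟨x, hx, hx'⟩ := ha
    obtain ⟨z, hz, hz'⟩ := hb
    exact ⟨x + z, add_mem hx hz, by intros; simp [hx', hz']⟩
  | hs k t =>
    choose u hu using fun i => exists_unit_lift (A := A) (t i)
    refine ⟨k • unitsSymbol u, zsmul_mem (AddSubgroup.subset_closure (Set.mem_range_self u)) k,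
      fun ϖ hϖ => ?_⟩
    simp [spec_symbol, theta_unit, ru, hu]

end MilnorKLib
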